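import Mathlib

set_option linter.unusedSectionVars false
set_option linter.unusedVariables false
set_option linter.unusedSimpArgs false
set_option autoImplicit false
set_option linter.style.haveILetI false
set_option maxHeartbeats 400000

universe w v u

noncomputable section

namespace Groth.Agent.Helper6.ShCoh

open CategoryTheory CategoryTheory.Limits CategoryTheory.Abelian

variable {𝒜 : Type u} [Category.{v} 𝒜] [Abelian 𝒜]

/-- the short complex `Z(f) → X → Z(g)` attached to composable morphisms with `f ≫ g = 0`,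
where `Z` denotes kernels -/
def kerSC {X Y Z : 𝒜} (f : X ⟶ Y) (g : Y ⟶ Z) (w : f ≫ g = 0) : ShortComplex 𝒜 :=
  ShortComplex.mk (kernel.ι f) (kernel.lift g f w)
    (by rw [← cancel_mono (kernel.ι g), Category.assoc, kernel.lift_ι, kernel.condition,
      zero_comp])

lemma kerSC_shortExact {X Y Z : 𝒜} (f : X ⟶ Y) (g : Y ⟶ Z) (w : f ≫ g = 0)
    (hex : (ShortComplex.mk f g w).Exact) : (kerSC f g w).ShortExact := by
  haveI : Mono (kerSC f g w).f := by dsimp [kerSC]; infer_instance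
  haveI : Epi (kerSC f g w).g := by
    dsimp [kerSC]
    exact (ShortComplex.exact_iff_epi_kernel_lift _).1 hex
  refine ShortComplex.ShortExact.mk ?_
  apply ShortComplex.exact_of_f_is_kernel
  exact isKernelOfComp (kernel.ι g) f (kernelIsKernel f) _ (kernel.lift_ι _ _ _)

variable [HasExt.{w} 𝒜]

lemma ext_eq_zero_of_isZero {M Z : 𝒜} (hZ : IsZero Z) {n : ℕ} (x : Ext M Z n) : x = 0 := by
  have h1 : x = x.comp (Ext.mk₀ (𝟙 Z)) (add_zero n) := by simp
  rw [h1, hZ.eq_of_src (𝟙 Z) 0, Ext.mk₀_zero, Ext.comp_zero]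

/-- dimension shifting along an exact chain complex -/
lemma ext_cycles_eq_zero (M : 𝒜) (F : ChainComplex 𝒜 ℕ) (r : ℕ)
    (hmono : Mono (F.d r (r - 1)))
    (hex : ∀ j : ℕ, 1 ≤ j → j < r → F.ExactAt j)
    (hvan : ∀ j : ℕ, 2 ≤ j → j ≤ r → Subsingleton (Ext M (F.X j) (j - 1))) :
    ∀ (k j : ℕ), j + 1 + k = r → ∀ x : Ext M (kernel (F.d (j + 1) j)) (j + 1), x = 0 := by
  intro k
  induction k with
  | zero =>
    intro j hj x
    obtain rfl : r = j + 1 := by lia
    have hmono' : Mono (F.d (j + 1) j) := hmono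
    exact ext_eq_zero_of_isZero (isZero_kernel_of_mono _) x
  | succ k ih =>
    intro j hj x
    have hex' : (F.sc' (j + 2) (j + 1) j).Exact := by
      rw [← F.exactAt_iff' (j + 2) (j + 1) j (by simp) (by simp)]
      exact hex (j + 1) (by lia) (by lia)
    have hS := kerSC_shortExact (F.d (j + 2) (j + 1)) (F.d (j + 1) j) (F.d_comp_d _ _ _) hex'
    have h0 : x.comp hS.extClass (rfl : j + 1 + 1 = j + 2) = 0 := ih (j + 1) (by lia) _
    obtain ⟨x₂, hx₂⟩ := Ext.covariant_sequence_exact₃ M hS x rfl h0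
    haveI : Subsingleton (Ext M (F.X (j + 2)) (j + 1)) := hvan (j + 2) (by lia) (by lia)
    have h2 : x₂ = 0 :=
      @Subsingleton.elim (Ext M (F.X (j + 2)) (j + 1)) this x₂ 0
    rw [← hx₂, h2, Ext.zero_comp]
    rfl

lemma exists_lift_ext_zero (M : 𝒜) (F : ChainComplex 𝒜 ℕ) (r : ℕ) (hr : 1 ≤ r)
    (hmono : Mono (F.d r (r - 1))) (hepi : Epi (F.d 1 0))
    (hex : ∀ j : ℕ, 1 ≤ j → j < r → F.ExactAt j)
    (hvan : ∀ j : ℕ, 2 ≤ j → j ≤ r → Subsingleton (Ext M (F.X j) (j - 1)))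
    (y : Ext M (F.X 0) 0) :
    ∃ x : Ext M (F.X 1) 0, x.comp (Ext.mk₀ (F.d 1 0)) (add_zero 0) = y := by
  have hS : (ShortComplex.mk (kernel.ι (F.d 1 0)) (F.d 1 0) (kernel.condition _)).ShortExact := by
    refine ShortComplex.ShortExact.mk ?_
    apply ShortComplex.exact_of_f_is_kernel
    exact kernelIsKernel _
  have h0 : y.comp hS.extClass (rfl : 0 + 1 = 1) = 0 :=
    ext_cycles_eq_zero M F r hmono hex hvan (r - 1) 0 (by lia) _
  exact Ext.covariant_sequence_exact₃ M hS y rfl h0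

end Groth.Agent.Helper6.ShCoh
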