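import Mathlib
import Groth.Agent.Lib.Helper6.ShCoh.DimShift

set_option linter.unusedSectionVars false
set_option linter.unusedVariables false
set_option linter.unusedSimpArgs false
set_option autoImplicit false
set_option linter.style.haveILetI false
set_option maxHeartbeats 400000

universe u

noncomputable section

namespace Groth.Agent.Helper6.ShCoh

open CategoryTheory CategoryTheory.Limits TopologicalSpace

theorem sections_surjective (X : TopCat.{u})
    [HasExt.{u} (Sheaf (Opens.grothendieckTopology X) AddCommGrpCat.{u})]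
    (r : ℕ) (hr : 1 ≤ r)
    (F : ChainComplex (Sheaf (Opens.grothendieckTopology X) AddCommGrpCat.{u}) ℕ)
    (hmono : Mono (F.d r (r - 1))) (hepi : Epi (F.d 1 0))
    (hex : ∀ j : ℕ, 1 ≤ j → j < r → F.ExactAt j)
    (hvan : ∀ j : ℕ, 2 ≤ j → j ≤ r → Subsingleton (Sheaf.H (F.X j) (j - 1))) :
    Function.Surjective ((F.d 1 0).hom.app (Opposite.op ⊤)) := by
  intro s
  have hT : IsTerminal (⊤ : Opens X) := isTerminalTop
  obtain ⟨x, hx⟩ := exists_lift_ext_zero _ F r hr hmono hepi hex hvan
    ((Sheaf.H.equiv₀ (F.X 0) hT).symm s)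
  refine ⟨Sheaf.H.equiv₀ (F.X 1) hT x, ?_⟩
  rw [Sheaf.H.equiv₀_naturality hT (F.d 1 0) x]
  have h1 : Sheaf.H.map (F.d 1 0) 0 x = (Sheaf.H.equiv₀ (F.X 0) hT).symm s := hx
  rw [h1, AddEquiv.apply_symm_apply]

end Groth.Agent.Helper6.ShCoh
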